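import Mathlib

/-!
# The normal form of an Artin–Schreier extension of a Laurent series field
-/

set_option autoImplicit false

universe u v w

attribute [local instance] FractionRing.liftAlgebra

open Polynomial

namespace Groth.Agent.ArtinSchreierNF

section Generator

variable {F : Type u} {E : Type v} [Field F] [Field E] [Algebra F E] [FiniteDimensional F E] [IsGalois F E]
  {p : ℕ} [Fact p.Prime] [CharP E p]

/-- A Galois extension of degree `p` in characteristic `p` has an Artin–Schreier element. -/
theorem exists_generator (hdeg : Module.finrank F E = p) :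
    ∃ x : E, x ∉ Set.range (algebraMap F E) ∧ ∃ α : F, x ^ p - x + algebraMap F E α = 0 := by
  classical
  have hcard : Nat.card (E ≃ₐ[F] E) = p := (IsGalois.card_aut_eq_finrank F E).trans hdeg
  obtain ⟨σ, hσ1⟩ : ∃ σ : E ≃ₐ[F] E, σ ≠ 1 := by
    haveI : Nontrivial (E ≃ₐ[F] E) := Finite.one_lt_card_iff_nontrivial.1 (hcard ▸ (Fact.out : p.Prime).one_lt)
    exact exists_ne 1
  have hσo : orderOf σ = p := orderOf_eq_prime (by rw [← hcard]; exact pow_card_eq_one') hσ1
  obtain ⟨θ, hθ⟩ := Algebra.trace_surjective F E 1
  have hsum : ∑ i ∈ Finset.range p, (σ ^ i) θ = 1 := by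
    have h := trace_eq_sum_automorphisms (K := F) (L := E) θ
    rw [hθ, map_one] at h
    rw [h]
    refine Finset.sum_bij (fun i _ => σ ^ i) (fun _ _ => Finset.mem_univ _) ?_ ?_ (fun _ _ => rfl)
    · intro i hi j hj hij
      exact pow_injOn_Iio_orderOf (by simpa [hσo] using hi) (by simpa [hσo] using hj) hij
    · intro τ _
      have hz : Subgroup.zpowers σ = ⊤ := Subgroup.eq_top_of_card_eq _ (by rw [Nat.card_zpowers, hσo, hcard])
      have hτ : τ ∈ Submonoid.powers σ :=
        mem_powers_iff_mem_zpowers.2 (hz ▸ Subgroup.mem_top τ)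
      obtain ⟨i, hi, rfl⟩ := Finset.mem_image.1 (mem_powers_iff_mem_range_orderOf.1 hτ)
      exact ⟨i, by rwa [hσo] at hi, rfl⟩
  let x : E := ∑ i ∈ Finset.range p, (i : E) * (σ ^ i) θ
  have hwrap : ∑ i ∈ Finset.range p, (((i + 1 : ℕ) : E) * (σ ^ (i + 1)) θ) = x := by
    have h1 : ∑ i ∈ Finset.range (p + 1), (i : E) * (σ ^ i) θ = x + (p : E) * (σ ^ p) θ := Finset.sum_range_succ _ _
    rw [Finset.sum_range_succ'] at h1
    simpa using h1
  have hσx : σ x = x - 1 := by
    have hs' : ∑ i ∈ Finset.range p, (σ ^ (i + 1)) θ = 1 := by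
      have h := congrArg σ hsum
      rw [map_sum, map_one] at h
      simp only [pow_succ', AlgEquiv.mul_apply]
      exact h
    calc σ x = ∑ i ∈ Finset.range p, ((((i + 1 : ℕ) : E) * (σ ^ (i + 1)) θ) - (σ ^ (i + 1)) θ) := by
          rw [map_sum]
          refine Finset.sum_congr rfl fun i _ => ?_
          rw [map_mul, map_natCast, pow_succ', AlgEquiv.mul_apply, Nat.cast_add, Nat.cast_one]
          ring
      _ = x - 1 := by rw [Finset.sum_sub_distrib, hwrap, hs']
  refine ⟨x, ?_, ?_⟩
  · rintro ⟨y, hy⟩
    rw [← hy, AlgEquiv.commutes] at hσx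
    have h := left_eq_add.1 (hσx.trans (sub_eq_add_neg _ _))
    exact one_ne_zero (neg_eq_zero.1 h)
  · have hfix : σ (x ^ p - x) = x ^ p - x := by
      rw [map_sub, map_pow, hσx, sub_pow_char, one_pow]
      ring
    have hall : ∀ τ : E ≃ₐ[F] E, τ (x ^ p - x) = x ^ p - x := by
      intro τ
      have hz : Subgroup.zpowers σ ≤ MulAction.stabilizer (E ≃ₐ[F] E) (x ^ p - x) :=
        Subgroup.zpowers_le.2 hfix
      rw [Subgroup.eq_top_of_card_eq (Subgroup.zpowers σ) (by rw [Nat.card_zpowers, hσo, hcard])] at hz
      exact hz (Subgroup.mem_top τ)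
    obtain ⟨β, hβ⟩ := (IsGalois.mem_range_algebraMap_iff_fixed (x ^ p - x)).2 hall
    exact ⟨-β, by rw [map_neg, hβ, add_neg_cancel]⟩

end Generator

section Residue

variable {A : Type u} {B : Type v} [CommRing A] [IsDomain A] [CommRing B] [Algebra A B]
  [Module.Finite A B] [Module.Flat A B]

/-- A totally ramified maximal ideal has trivial residue extension. -/
theorem residue_surjective (M : Ideal B) [M.IsMaximal] [(M.under A).IsMaximal]
    (h : Module.finrank A B ≤ M.ramificationIdx A) (hpos : 0 < Module.finrank A B) (b : B) :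
    ∃ a : A, b - algebraMap A B a ∈ M := by
  classical
  letI : Fintype ((M.under A).primesOver B) := (Algebra.QuasiFinite.finite_primesOver (M.under A)).fintype
  haveI : M.LiesOver (M.under A) := ⟨rfl⟩
  have hsum := Ideal.sum_ramification_inertia_eq_finrank (S := B) (M.under A)
  have hle : M.ramificationIdx A * M.inertiaDeg A ≤ Module.finrank A B := by
    rw [← hsum]
    exact Finset.single_le_sum (f := fun q : (M.under A).primesOver B =>
      q.1.ramificationIdx A * q.1.inertiaDeg A) (fun _ _ => Nat.zero_le _)
      (Finset.mem_univ (⟨M, inferInstance, inferInstance⟩ : (M.under A).primesOver B))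
  have hf : M.inertiaDeg A = 1 := by
    have := Ideal.inertiaDeg_pos (R := A) (q := M)
    nlinarith
  rw [Ideal.inertiaDeg_eq_of_isMaximal (M.under A) M] at hf
  letI : Field (A ⧸ M.under A) := Ideal.Quotient.field _
  haveI : Nontrivial (B ⧸ M) := Ideal.Quotient.nontrivial_iff.2 (Ideal.IsMaximal.ne_top inferInstance)
  obtain ⟨c, hc⟩ := (finrank_eq_one_iff_of_nonzero' (K := A ⧸ M.under A) (V := B ⧸ M) 1 one_ne_zero).1 hf
    (Ideal.Quotient.mk M b)
  obtain ⟨a, rfl⟩ := Ideal.Quotient.mk_surjective c
  refine ⟨a, Ideal.Quotient.eq.1 ?_⟩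
  rw [← hc, Algebra.smul_def, mul_one]
  rfl

end Residue

section NormalForm

variable (p : ℕ) [Fact p.Prime] (K : Type u) [Field K] [CharP K p]
  (B : Type u) [CommRing B] [IsDedekindDomain B] [Algebra (PowerSeries K) B]
  [Module.Finite (PowerSeries K) B] [Module.IsTorsionFree (PowerSeries K) B]
  (M : Ideal B) [M.IsMaximal]

/-- The Artin–Schreier equation of a totally ramified extension has a pole. -/
theorem range_of_integral [CharP (FractionRing B) p]
    (hdeg : Module.finrank (FractionRing (PowerSeries K)) (FractionRing B) = p)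
    (hram : M.ramificationIdx (PowerSeries K) = p) (x : FractionRing B) (a : PowerSeries K)
    (hx : x ^ p - x + algebraMap (PowerSeries K) (FractionRing B) a = 0) :
    x ∈ Set.range (algebraMap (FractionRing (PowerSeries K)) (FractionRing B)) := by
  have hp := (Fact.out : p.Prime)
  haveI : Algebra.IsIntegral (PowerSeries K) B := Algebra.IsIntegral.of_finite _ _
  haveI : (M.under (PowerSeries K)).IsMaximal := Ideal.IsMaximal.under (PowerSeries K) M
  have hrank : Module.finrank (PowerSeries K) B = p :=
    (IsFractionRing.finrank_eq (PowerSeries K) (FractionRing (PowerSeries K)) B (FractionRing B)).symm.trans hdeg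
  have hint : IsIntegral B x := by
    refine ⟨X ^ p - X + C (algebraMap (PowerSeries K) B a), ?_, ?_⟩
    · refine Monic.add_of_left (monic_X_pow_sub (by rw [degree_X]; exact_mod_cast hp.one_lt)) ?_
      refine lt_of_le_of_lt degree_C_le ?_
      rw [degree_sub_eq_left_of_degree_lt (by rw [degree_X, degree_X_pow]; exact_mod_cast hp.one_lt), degree_X_pow]
      exact_mod_cast hp.pos
    · rw [eval₂_add, eval₂_sub, eval₂_X_pow, eval₂_X, eval₂_C, ← IsScalarTower.algebraMap_apply]
      exact hx
  obtain ⟨b, rfl⟩ := IsIntegrallyClosed.isIntegral_iff.1 hint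
  obtain ⟨a₀, ha₀⟩ := residue_surjective (A := PowerSeries K) M (by rw [hram, hrank]) (hrank ▸ hp.pos) b
  have hb : b ^ p - b + algebraMap (PowerSeries K) B a = 0 := by
    apply IsFractionRing.injective B (FractionRing B)
    rw [map_add, map_sub, map_pow, map_zero, ← IsScalarTower.algebraMap_apply]
    exact hx
  have ha : a₀ ^ p - a₀ + a ∈ M.under (PowerSeries K) := by
    refine Ideal.mem_comap.2 ?_
    rw [← Ideal.Quotient.eq_zero_iff_mem, map_add, map_sub, map_pow, map_add, map_sub, map_pow,
      ← Ideal.Quotient.eq.2 ha₀, ← map_pow, ← map_sub, ← map_add, hb, map_zero]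
  have hmax : M.under (PowerSeries K) = Ideal.span {PowerSeries.X} :=
    (IsLocalRing.eq_maximalIdeal inferInstance).trans PowerSeries.maximalIdeal_eq_span_X
  haveI : HenselianRing (PowerSeries K) (Ideal.span {PowerSeries.X}) := inferInstance
  have hd : derivative (X ^ p - X + C a : (PowerSeries K)[X]) = -1 := by
    haveI : CharP (PowerSeries K) p := charP_of_injective_ringHom (PowerSeries.C_injective (R := K)) p
    rw [derivative_add, derivative_sub, derivative_C, derivative_X, derivative_X_pow, CharP.cast_eq_zero, map_zero,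
      zero_mul, zero_sub, add_zero]
  obtain ⟨r, hr, -⟩ := HenselianRing.is_henselian (I := Ideal.span {PowerSeries.X}) (X ^ p - X + C a)
    (by
      refine Monic.add_of_left (monic_X_pow_sub (by rw [degree_X]; exact_mod_cast hp.one_lt)) ?_
      refine lt_of_le_of_lt degree_C_le ?_
      rw [degree_sub_eq_left_of_degree_lt (by rw [degree_X, degree_X_pow]; exact_mod_cast hp.one_lt), degree_X_pow]
      exact_mod_cast hp.pos)
    a₀ (by rw [← hmax]; simpa using ha) (by rw [hd, eval_neg, eval_one, map_neg, map_one]; exact isUnit_one.neg)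
  simp only [IsRoot, eval_add, eval_sub, eval_pow, eval_X, eval_C] at hr
  have hdiff : (algebraMap B (FractionRing B) b - algebraMap (PowerSeries K) (FractionRing B) r) ∈
      (⊥ : Subfield (FractionRing B)) := by
    rw [Subfield.mem_bot_iff_pow_eq_self (F := FractionRing B) (p := p), sub_pow_char, ← map_pow (algebraMap (PowerSeries K) _),
      show r ^ p = r - a by linear_combination hr, map_sub]
    linear_combination hx
  obtain ⟨c, hc⟩ : algebraMap B (FractionRing B) b - algebraMap (PowerSeries K) (FractionRing B) r ∈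
      Set.range (algebraMap (FractionRing (PowerSeries K)) (FractionRing B)) :=
    (bot_le : ⊥ ≤ (algebraMap (FractionRing (PowerSeries K)) (FractionRing B)).fieldRange) hdiff
  exact ⟨c + algebraMap _ _ r, by rw [map_add, hc, ← IsScalarTower.algebraMap_apply, sub_add_cancel]⟩

variable [PerfectField K]

/-- Reduction of the pole order. -/
theorem exists_normal_form [CharP (FractionRing B) p]
    (hdeg : Module.finrank (FractionRing (PowerSeries K)) (FractionRing B) = p)
    (hram : M.ramificationIdx (PowerSeries K) = p) :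
    ∀ (n : ℕ) (x : FractionRing B) (a : PowerSeries K),
      x ∉ Set.range (algebraMap (FractionRing (PowerSeries K)) (FractionRing B)) →
      x ^ p - x + algebraMap (PowerSeries K) (FractionRing B) a /
        algebraMap (PowerSeries K) (FractionRing B) PowerSeries.X ^ n = 0 →
      ∃ y : FractionRing B, y ∉ Set.range (algebraMap (FractionRing (PowerSeries K)) (FractionRing B)) ∧
        ∃ (m : ℕ) (c : PowerSeries K), 0 < m ∧ ¬ p ∣ m ∧ PowerSeries.constantCoeff c ≠ 0 ∧
          y ^ p - y + algebraMap (PowerSeries K) (FractionRing B) c /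
            algebraMap (PowerSeries K) (FractionRing B) PowerSeries.X ^ m = 0 := by
  haveI : ExpChar K p := ExpChar.prime Fact.out
  have hp := (Fact.out : p.Prime)
  have ht : algebraMap (PowerSeries K) (FractionRing B) PowerSeries.X ≠ 0 :=
    fun h => PowerSeries.X_ne_zero (FaithfulSMul.algebraMap_injective _ _ (h.trans (map_zero _).symm))
  set t := algebraMap (PowerSeries K) (FractionRing B) PowerSeries.X with ht'
  intro n
  induction n with
  | zero =>
    intro x a hxF hx
    rw [pow_zero, div_one] at hx
    exact absurd (range_of_integral p K B M hdeg hram x a hx) hxF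
  | succ n ih =>
    intro x a hxF hx
    -- lower the pole order when the leading coefficient vanishes
    have low : ∀ (x : FractionRing B) (a : PowerSeries K),
        x ∉ Set.range (algebraMap (FractionRing (PowerSeries K)) (FractionRing B)) →
        PowerSeries.constantCoeff a = 0 →
        x ^ p - x + algebraMap (PowerSeries K) (FractionRing B) a / t ^ (n + 1) = 0 →
        ∃ y : FractionRing B, y ∉ Set.range (algebraMap (FractionRing (PowerSeries K)) (FractionRing B)) ∧
          ∃ (m : ℕ) (c : PowerSeries K), 0 < m ∧ ¬ p ∣ m ∧ PowerSeries.constantCoeff c ≠ 0 ∧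
            y ^ p - y + algebraMap (PowerSeries K) (FractionRing B) c / t ^ m = 0 := by
      intro x a hxF ha hx
      obtain ⟨a', rfl⟩ := PowerSeries.X_dvd_iff.2 ha
      refine ih x a' hxF ?_
      rw [map_mul, pow_succ', ← ht', mul_div_mul_left _ _ ht] at hx
      exact hx
    by_cases ha : PowerSeries.constantCoeff a = 0
    · exact low x a hxF ha hx
    by_cases hdvd : p ∣ n + 1
    swap
    · exact ⟨x, hxF, n + 1, a, n.succ_pos, hdvd, ha, hx⟩
    obtain ⟨q, hq⟩ := hdvd
    obtain ⟨c, hc⟩ := (frobeniusEquiv K p).surjective (PowerSeries.constantCoeff a)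
    rw [frobeniusEquiv_apply, frobenius_def] at hc
    have hqle : q < n + 1 := by
      rw [hq]
      exact lt_mul_left (Nat.pos_of_ne_zero (fun h => by simp [h] at hq)) hp.one_lt
    refine low (x + algebraMap (PowerSeries K) (FractionRing B) (PowerSeries.C c) / t ^ q)
      (a - PowerSeries.C (c ^ p) + PowerSeries.C c * PowerSeries.X ^ (n + 1 - q)) ?_ ?_ ?_
    · rintro ⟨y, hy⟩
      refine hxF ⟨y - algebraMap (PowerSeries K) (FractionRing (PowerSeries K)) (PowerSeries.C c) /
        algebraMap (PowerSeries K) (FractionRing (PowerSeries K)) PowerSeries.X ^ q, ?_⟩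
      rw [map_sub, map_div₀, map_pow, ← IsScalarTower.algebraMap_apply, ← IsScalarTower.algebraMap_apply, hy]
      exact add_sub_cancel_right _ _
    · simp [hc, zero_pow (Nat.sub_ne_zero_of_lt hqle)]
    · have e1 : (t ^ q) ^ p = t ^ (n + 1) := by rw [← pow_mul, hq, mul_comm]
      have e2 : t ^ (n + 1) = t ^ q * t ^ (n + 1 - q) := by rw [← pow_add, Nat.add_sub_cancel' hqle.le]
      rw [add_pow_char, div_pow, e1, map_add, map_sub, map_mul, map_pow (algebraMap (PowerSeries K) (FractionRing B)),
        ← ht', map_pow (PowerSeries.C (R := K)), map_pow (algebraMap (PowerSeries K) (FractionRing B))]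
      refine Eq.trans ?_ hx
      rw [e2]
      field_simp
      ring

end NormalForm

end Groth.Agent.ArtinSchreierNF
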